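import Cfsg.Agent.Lib.Grp.TF42.Defs

set_option autoImplicit false
set_option maxRecDepth 100000
set_option Elab.async false
set_option linter.unusedSectionVars false

namespace Cfsg.Agent.CG.TF42

theorem c0 : allRange (chkBase 1755 16 (appT tabs t38 0xffff) 0 (inv 0)) 0 1755 = true := by decide +kernel
theorem c1 : allRange (chkBase 1755 16 (appT tabs t38 0xffff) 1 (inv 1)) 0 1755 = true := by decide +kernel
theorem c2 : allRange (chkBase 1755 16 (appT tabs t38 0xffff) 2 (inv 2)) 0 1755 = true := by decide +kernel
theorem c3 : allRange (chkBase 1755 16 (appT tabs t38 0xffff) 3 (inv 3)) 0 1755 = true := by decide +kernel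
theorem c4 : chkDef 16 (appT tabs t38 0xffff) 4 (slp 4) 0 1755 = true := by decide +kernel
theorem c5 : chkDef 16 (appT tabs t38 0xffff) 5 (slp 5) 0 1755 = true := by decide +kernel
theorem c6 : chkDef 16 (appT tabs t38 0xffff) 6 (slp 6) 0 1755 = true := by decide +kernel
theorem c7 : chkDef 16 (appT tabs t38 0xffff) 7 (slp 7) 0 1755 = true := by decide +kernel
theorem c8 : chkDef 16 (appT tabs t38 0xffff) 8 (slp 8) 0 1755 = true := by decide +kernel
theorem c9 : chkDef 16 (appT tabs t38 0xffff) 9 (slp 9) 0 1755 = true := by decide +kernel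
theorem c10 : chkDef 16 (appT tabs t38 0xffff) 10 (slp 10) 0 1755 = true := by decide +kernel
theorem c11 : chkDef 16 (appT tabs t38 0xffff) 11 (slp 11) 0 1755 = true := by decide +kernel
theorem c12 : chkDef 16 (appT tabs t38 0xffff) 12 (slp 12) 0 1755 = true := by decide +kernel
theorem c13 : chkDef 16 (appT tabs t38 0xffff) 13 (slp 13) 0 1755 = true := by decide +kernel
theorem c14 : chkDef 16 (appT tabs t38 0xffff) 14 (slp 14) 0 1755 = true := by decide +kernel
theorem c15 : chkDef 16 (appT tabs t38 0xffff) 15 (slp 15) 0 1755 = true := by decide +kernel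
theorem c16 : chkDef 16 (appT tabs t38 0xffff) 16 (slp 16) 0 1755 = true := by decide +kernel
theorem c17 : chkDef 16 (appT tabs t38 0xffff) 17 (slp 17) 0 1755 = true := by decide +kernel
theorem c18 : chkDef 16 (appT tabs t38 0xffff) 18 (slp 18) 0 1755 = true := by decide +kernel
theorem c19 : chkDef 16 (appT tabs t38 0xffff) 19 (slp 19) 0 1755 = true := by decide +kernel
theorem c20 : chkDef 16 (appT tabs t38 0xffff) 20 (slp 20) 0 1755 = true := by decide +kernel
theorem c21 : chkDef 16 (appT tabs t38 0xffff) 21 (slp 21) 0 1755 = true := by decide +kernel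
theorem c22 : chkDef 16 (appT tabs t38 0xffff) 22 (slp 22) 0 1755 = true := by decide +kernel
theorem c23 : chkDef 16 (appT tabs t38 0xffff) 23 (slp 23) 0 1755 = true := by decide +kernel
theorem c24 : chkDef 16 (appT tabs t38 0xffff) 24 (slp 24) 0 1755 = true := by decide +kernel
theorem c25 : chkDef 16 (appT tabs t38 0xffff) 25 (slp 25) 0 1755 = true := by decide +kernel
theorem c26 : chkDef 16 (appT tabs t38 0xffff) 26 (slp 26) 0 1755 = true := by decide +kernel
theorem c27 : chkDef 16 (appT tabs t38 0xffff) 27 (slp 27) 0 1755 = true := by decide +kernel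
theorem c28 : chkDef 16 (appT tabs t38 0xffff) 28 (slp 28) 0 1755 = true := by decide +kernel
theorem c29 : chkDef 16 (appT tabs t38 0xffff) 29 (slp 29) 0 1755 = true := by decide +kernel
theorem c30 : chkDef 16 (appT tabs t38 0xffff) 30 (slp 30) 0 1755 = true := by decide +kernel
theorem c31 : chkDef 16 (appT tabs t38 0xffff) 31 (slp 31) 0 1755 = true := by decide +kernel
theorem c32 : chkDef 16 (appT tabs t38 0xffff) 32 (slp 32) 0 1755 = true := by decide +kernel
theorem c33 : chkDef 16 (appT tabs t38 0xffff) 33 (slp 33) 0 1755 = true := by decide +kernel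
theorem c34 : chkDef 16 (appT tabs t38 0xffff) 34 (slp 34) 0 1755 = true := by decide +kernel
theorem c35 : chkDef 16 (appT tabs t38 0xffff) 35 (slp 35) 0 1755 = true := by decide +kernel
theorem c36 : chkDef 16 (appT tabs t38 0xffff) 36 (slp 36) 0 1755 = true := by decide +kernel
theorem c37 : chkDef 16 (appT tabs t38 0xffff) 37 (slp 37) 0 1755 = true := by decide +kernel
theorem c38 : chkDef 16 (appT tabs t38 0xffff) 38 (false, []) 0 1755 = true := by decide +kernel
theorem c39 : mc0.chk (appT tabs t38 0xffff) 1 1754 = true := by decide +kernel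
theorem c40 : mc1.chk (appT tabs t38 0xffff) 1 639 = true := by decide +kernel
theorem c41 : mc2.chk (appT tabs t38 0xffff) 1 31 = true := by decide +kernel
theorem c42 : okcb 1755 16 (bases mc) = true := by decide +kernel
theorem c43 : headAll (appT tabs t38 0xffff) mc [] = true := by decide +kernel
theorem c44 : tc0.head tcR = true := by decide +kernel
theorem c45 : allL (fun a => tc0.chk a 0 tc0.N) tc0.S = true := by decide +kernel
theorem c46 : tc1.head tcR = true := by decide +kernel
theorem c47 : allL (fun a => tc1.chk a 0 tc1.N) tc1.S = true := by decide +kernel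
theorem c48 : tc2.head tcR = true := by decide +kernel
theorem c49 : allL (fun a => tc2.chk a 0 tc2.N) tc2.S = true := by decide +kernel
theorem c50 : tcLink tc [] [32,33,34,35,36,37] = true := by decide +kernel
theorem c51 : oneAll 16 (appT tabs t38 0xffff) [32,33] 0 1755 = true := by decide +kernel
theorem c52 : oneAll 16 (appT tabs t38 0xffff) [33,32] 0 1755 = true := by decide +kernel
theorem c53 : oneAll 16 (appT tabs t38 0xffff) [34,35] 0 1755 = true := by decide +kernel
theorem c54 : oneAll 16 (appT tabs t38 0xffff) [35,34] 0 1755 = true := by decide +kernel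
theorem c55 : oneAll 16 (appT tabs t38 0xffff) [32,32,32,32] 0 1755 = true := by decide +kernel
theorem c56 : oneAll 16 (appT tabs t38 0xffff) [34,34,34,34] 0 1755 = true := by decide +kernel
theorem c57 : oneAll 16 (appT tabs t38 0xffff) [33,35,32,32,34,33] 0 1755 = true := by decide +kernel
theorem c58 : oneAll 16 (appT tabs t38 0xffff) [33,35,35,32,34,34] 0 1755 = true := by decide +kernel
theorem c59 : oneAll 16 (appT tabs t38 0xffff) [33,35,33,35,32,34,32,34] 0 1755 = true := by decide +kernel
theorem c60 : oneAll 16 (appT tabs t38 0xffff) [36,36] 0 1755 = true := by decide +kernel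
theorem c61 : oneAll 16 (appT tabs t38 0xffff) [36,34,36,34,36,34,36,34] 0 1755 = true := by decide +kernel
theorem c62 : oneAll 16 (appT tabs t38 0xffff) [36,33,35,36,32,36,33,36,34,32] 0 1755 = true := by decide +kernel
theorem c63 : oneAll 16 (appT tabs t38 0xffff) [36,35,36,34,36,34,34,36,35,35] 0 1755 = true := by decide +kernel
theorem c64 : oneAll 16 (appT tabs t38 0xffff) [36,35,32,36,33,34,36,33,35,33,35] 0 1755 = true := by decide +kernel
theorem c65 : oneAll 16 (appT tabs t38 0xffff) [36,33,33,36,32,32,36,32,32,36,33,33] 0 1755 = true := by decide +kernel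
theorem c66 : oneAll 16 (appT tabs t38 0xffff) [36,33,33,36,34,32,34,36,32,32,36,35,33,35] 0 1755 = true := by decide +kernel
theorem c67 : oneAll 16 (appT tabs t38 0xffff) [36,33,36,33,36,32,36,35,33,36,32,36,32,34] 0 1755 = true := by decide +kernel
theorem c68 : oneAll 16 (appT tabs t38 0xffff) [36,33,35,35,36,32,32,36,32,36,34,36,33,33,35] 0 1755 = true := by decide +kernel
theorem c69 : oneAll 16 (appT tabs t38 0xffff) [37,37] 0 1755 = true := by decide +kernel
theorem c70 : oneAll 16 (appT tabs t38 0xffff) [37,32,37,33,37,33,33] 0 1755 = true := by decide +kernel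
theorem c71 : oneAll 16 (appT tabs t38 0xffff) [37,34,37,34,37,34,37,34] 0 1755 = true := by decide +kernel
theorem c72 : oneAll 16 (appT tabs t38 0xffff) [37,36,37,36,37,36,37,36] 0 1755 = true := by decide +kernel
theorem c73 : oneAll 16 (appT tabs t38 0xffff) [37,35,35,37,34,37,35,37,35,35] 0 1755 = true := by decide +kernel
theorem c74 : oneAll 16 (appT tabs t38 0xffff) [37,33,34,36,35,32,37,33,34,36,35,32] 0 1755 = true := by decide +kernel
theorem c75 : oneAll 16 (appT tabs t38 0xffff) [37,36,34,36,33,36,37,36,32,36,35,36] 0 1755 = true := by decide +kernel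
theorem c76 : oneAll 16 (appT tabs t38 0xffff) [37,32,34,36,32,37,36,37,33,36,35,33] 0 1755 = true := by decide +kernel
theorem c77 : oneAll 16 (appT tabs t38 0xffff) [37,33,35,37,34,32,37,33,35,37,34,32] 0 1755 = true := by decide +kernel
theorem c78 : oneAll 16 (appT tabs t38 0xffff) [37,32,34,37,32,34,37,35,33,37,35,33] 0 1755 = true := by decide +kernel
theorem c79 : oneAll 16 (appT tabs t38 0xffff) [37,34,37,33,36,32,37,35,37,36,33,33,36] 0 1755 = true := by decide +kernel
theorem c80 : oneAll 16 (appT tabs t38 0xffff) [37,33,36,35,36,32,37,35,32,32,37,35,35,36,34,36] 0 1755 = true := by decide +kernel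
theorem c81 : eqAll 16 (appT tabs t38 0xffff) [0] (nth inW [] 0) 0 1755 = true := by decide +kernel
theorem c82 : eqAll 16 (appT tabs t38 0xffff) [1] (nth inW [] 1) 0 1755 = true := by decide +kernel
theorem c83 : eqAll 16 (appT tabs t38 0xffff) [2] (nth inW [] 2) 0 1755 = true := by decide +kernel
theorem c84 : eqAll 16 (appT tabs t38 0xffff) [3] (nth inW [] 3) 0 1755 = true := by decide +kernel

end Cfsg.Agent.CG.TF42
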