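import Cfsg.Agent.Lib.Grp.TF42.D0

set_option autoImplicit false
set_option maxRecDepth 100000
set_option Elab.async false
set_option linter.unusedSectionVars false

namespace Cfsg.Agent.CG.TF42

noncomputable def tabs : List ℕ := [t0,t1,t2,t3,t4,t5,t6,t7,t8,t9,t10,t11,t12,t13,t14,t15,t16,t17,t18,t19,t20,t21,t22,t23,t24,t25,t26,t27,t28,t29,t30,t31,t32,t33,t34,t35,t36,t37]
noncomputable abbrev app : ℕ → ℕ → ℕ := appT tabs t38 0xffff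
noncomputable def slpL : List (Bool × List ℕ) := [(false,[]),
  (false,[]),
  (false,[]),
  (false,[]),
  (false,[0,3]),
  (true,[4]),
  (false,[4,4,4,4]),
  (true,[6]),
  (false,[4,4,4]),
  (true,[8]),
  (false,[3,3,1]),
  (true,[10]),
  (false,[10]),
  (true,[12]),
  (false,[2,11,0,3,1,10,0,10,10,2,1,8,0,3,11,11,1,11,0,2,1,10,3]),
  (true,[14]),
  (false,[15,13,13,15,13]),
  (true,[16]),
  (false,[13,13,17]),
  (true,[18]),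
  (false,[15,12,19]),
  (true,[20]),
  (false,[16,16,21,21,14]),
  (true,[22]),
  (false,[12,21,18,20]),
  (true,[24]),
  (false,[20,16,15,16,20]),
  (true,[26]),
  (false,[26,23,24,22,22]),
  (true,[28]),
  (false,[25,23,27,27,24,24]),
  (true,[30]),
  (false,[29,31]),
  (true,[32]),
  (false,[31,28,30]),
  (true,[34]),
  (false,[27,22,22,22,30,30]),
  (false,[18,18,21,13,24,27,22,31])]
noncomputable def slp (a : ℕ) : Bool × List ℕ := nth slpL (false, []) a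
noncomputable def invL : List ℕ := [1,0,3,2,5,4,7,6,9,8,11,10,13,12,15,14,17,16,19,18,21,20,23,22,25,24,27,26,29,28,31,30,33,32,35,34,36,37]
noncomputable def inv (a : ℕ) : ℕ := nth invL 38 a
noncomputable def bs : List ℕ := [1536,22496,7184]
noncomputable def mc0 : Lvl := ⟨1536, [12,13,14,15,16,17,18,19,20,21], 1755,
  fun i => look 0xffff mc0c (Nat.mul 16 i), fun i => look 0xfff mc0p (Nat.mul 12 i),
  fun i => look 0xff mc0l (Nat.mul 8 i), fun i => look 0xff mc0i (Nat.mul 8 i), fun x => look 0xffff mc0q x, 5⟩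
noncomputable def mc1 : Lvl := ⟨22496, [22,23,24,25,26,27], 640,
  fun i => look 0xffff mc1c (Nat.mul 16 i), fun i => look 0xfff mc1p (Nat.mul 12 i),
  fun i => look 0xff mc1l (Nat.mul 8 i), fun i => look 0xff mc1i (Nat.mul 8 i), fun x => look 0xffff mc1q x, 5⟩
noncomputable def mc2 : Lvl := ⟨7184, [28,29,30,31], 32,
  fun i => look 0xffff mc2c (Nat.mul 16 i), fun i => look 0xff mc2p (Nat.mul 8 i),
  fun i => look 0xff mc2l (Nat.mul 8 i), fun i => look 0xff mc2i (Nat.mul 8 i), fun x => look 0xffff mc2q x, 4⟩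
noncomputable def mc : List Lvl := [mc0, mc1, mc2]
noncomputable def tcR : List (List ℕ) := [[32,33],
  [33,32],
  [34,35],
  [35,34],
  [32,32,32,32],
  [34,34,34,34],
  [33,35,32,32,34,33],
  [33,35,35,32,34,34],
  [33,35,33,35,32,34,32,34],
  [36,36],
  [36,34,36,34,36,34,36,34],
  [36,33,35,36,32,36,33,36,34,32],
  [36,35,36,34,36,34,34,36,35,35],
  [36,35,32,36,33,34,36,33,35,33,35],
  [36,33,33,36,32,32,36,32,32,36,33,33],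
  [36,33,33,36,34,32,34,36,32,32,36,35,33,35],
  [36,33,36,33,36,32,36,35,33,36,32,36,32,34],
  [36,33,35,35,36,32,32,36,32,36,34,36,33,33,35],
  [37,37],
  [37,32,37,33,37,33,33],
  [37,34,37,34,37,34,37,34],
  [37,36,37,36,37,36,37,36],
  [37,35,35,37,34,37,35,37,35,35],
  [37,33,34,36,35,32,37,33,34,36,35,32],
  [37,36,34,36,33,36,37,36,32,36,35,36],
  [37,32,34,36,32,37,36,37,33,36,35,33],
  [37,33,35,37,34,32,37,33,35,37,34,32],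
  [37,32,34,37,32,34,37,35,33,37,35,33],
  [37,34,37,33,36,32,37,35,37,36,33,33,36],
  [37,33,36,35,36,32,37,35,32,32,37,35,35,36,34,36]]
noncomputable def tc0T : List ℕ := [0,0,0,0,0,0,0,0,0,0,0,0,0,0,0,0,0,0,0,0,0,0,0,0,0,0,0,0,0,0,0,0,tc0t32,tc0t33,tc0t34,tc0t35,tc0t36,tc0t37]
noncomputable def tc0r : Tr Rule := (.node (.node (.node (.node (.node (.node (.node (.node (.leaf ⟨37,[37],18,1⟩) (.leaf ⟨36,[32,36,33,36,34,32,36,33,35],11,3⟩)) (.node (.leaf ⟨34,[36,34,36,34,36,34,36],10,3⟩) (.leaf ⟨33,[34,36,35,32,37,33,34,36,35,32,37],23,1⟩))) (.node (.node (.leaf ⟨32,[36,33,34,36,33,35,33,35,36,35],13,2⟩) (.leaf ⟨36,[32,37,35,37,36,33,33,36,37,34,37,33],28,4⟩)) (.leaf ⟨34,[36,34,36,34,36,34,36],10,1⟩))) (.node (.node (.node (.leaf ⟨34,[34,34,34],5,1⟩) (.leaf ⟨35,[32,37,33,34,36,35,32,37,33,34,36],23,4⟩)) (.leaf ⟨36,[32,36,35,36,37,36,34,36,33,36,37],24,7⟩))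 (.node (.node (.leaf ⟨34,[37,34,37,34,37,34,37],20,5⟩) (.leaf ⟨37,[35,32,32,37,35,35,36,34,36,37,33,36,35,36,32],29,6⟩)) (.leaf ⟨34,[36,33,33,35,36,33,35,35,36,32,32,36,32,36],17,10⟩)))) (.node (.node (.node (.node (.leaf ⟨33,[33,35,32,32,34],6,5⟩) (.leaf ⟨36,[33,36,33,36,32,36,35,33,36,32,36,32,34],16,0⟩)) (.node (.leaf ⟨34,[36,32,32,36,35,33,35,36,33,33,36,34,32],15,6⟩) (.leaf ⟨37,[36,37,36,37,36,37,36],21,2⟩))) (.node (.node (.leaf ⟨36,[33,34,36,33,35,33,35,36,35,32],13,3⟩) (.leaf ⟨36,[32,37,36,37,33,36,35,33,37,32,34],25,3⟩)) (.leaf ⟨36,[35,33,36,32,36,32,34,36,33,36,33,36,32],16,6⟩))) (.node (.node (.node (.leaf ⟨32,[34,32,34,33,35,33,35],8,4⟩) (.leaf ⟨33,[37,35,33,37,32,34,37,32,34,37,35],27,8⟩)) (.leaf ⟨32,[32,36,35,33,35,36,33,33,36,34,32,34,36],15,8⟩)) (.node (.node (.leaf ⟨35,[37,35,35,37,35,35,37,34,37],22,6⟩)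 (.leaf ⟨34,[36,34,36,34,36,34,36],10,7⟩)) (.leaf ⟨37,[33,36,35,33,37,32,34,36,32,37,36],25,7⟩))))) (.node (.node (.node (.node (.node (.leaf ⟨34,[35],2,0⟩) (.leaf ⟨36,[37,36,37,36,37,36,37],21,3⟩)) (.node (.leaf ⟨35,[36,35,36,34,36,34,34,36,35],12,9⟩) (.leaf ⟨34,[37,34,37,34,37,34,37],20,7⟩))) (.node (.node (.leaf ⟨36,[35,32,36,33,34,36,33,35,33,35],13,0⟩) (.leaf ⟨33,[36,32,37,35,37,36,33,33,36,37,34,37],28,3⟩)) (.leaf ⟨36,[32,36,34,36,33,33,35,36,33,35,35,36,32,32],17,7⟩))) (.node (.node (.node (.leaf ⟨35,[32,34,34,33,35],7,2⟩) (.leaf ⟨37,[32,34,37,35,33,37,35,33,37,32,34],27,3⟩)) (.leaf ⟨32,[34,36,33,36,33,36,32,36,35,33,36,32,36],16,12⟩)) (.node (.node (.leaf ⟨34,[33,33,35,32,32],6,4⟩) (.leaf ⟨36,[35,36,32,37,35,32,32,37,35,35,36,34,36,37,33],29,2⟩)) (.leaf ⟨36,[32,32,36,32,36,34,36,33,33,35,36,33,35,35],17,4⟩)))) (.node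 (.node (.node (.node (.leaf ⟨32,[32,32,32],4,3⟩) (.leaf ⟨33,[35,37,34,32,37,33,35,37,34,32,37],26,7⟩)) (.node (.leaf ⟨34,[32,36,33,35,36,32,36,33,36],11,8⟩) (.leaf ⟨32,[37,33,34,36,35,32,37,33,34,36,35],23,11⟩))) (.node (.node (.leaf ⟨33,[37,33,33,37,32,37],19,3⟩) (.leaf ⟨35,[33,37,32,34,37,32,34,37,35,33,37],27,10⟩)) (.leaf ⟨36,[32,34,36,33,36,33,36,32,36,35,33,36,32],16,11⟩))) (.node (.node (.node (.leaf ⟨36,[35,36,34,36,34,34,36,35,35],12,0⟩) (.leaf ⟨37,[35,35,37,34,37,35,37,35,35],22,0⟩)) (.leaf ⟨34,[36,34,34,36,35,35,36,35,36],12,3⟩)) (.node (.node (.leaf ⟨37,[34,37,35,37,35,35,37,35,35],22,3⟩) (.leaf ⟨36,[33,33,36,32,32,36,32,32,36,33,33],14,0⟩)) (.leaf ⟨33,[37,32,34,36,32,37,36,37,33,36,35],25,11⟩)))))) (.node (.node (.node (.node (.node (.node (.leaf ⟨32,[33],0,0⟩) (.leaf ⟨36,[34,36,33,36,37,36,32,36,35,36,37],24,1⟩))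 (.node (.leaf ⟨36,[33,35,36,32,36,33,36,34,32],11,0⟩) (.leaf ⟨35,[37,34,32,37,33,35,37,34,32,37,33],26,2⟩))) (.node (.node (.leaf ⟨32,[36,33,33,36,33,33,36,32,32,36,32],14,8⟩) (.leaf ⟨35,[37,36,33,33,36,37,34,37,33,36,32,37],28,7⟩)) (.leaf ⟨32,[34,33,35,33,35,32,34],8,6⟩))) (.node (.node (.node (.leaf ⟨32,[32,34,33,33,35],6,2⟩) (.leaf ⟨34,[37,35,33,37,35,33,37,32,34,37,32],27,5⟩)) (.leaf ⟨36,[34,36,34,36,34,36,34],10,2⟩)) (.node (.node (.leaf ⟨35,[32,32,34,33,33],6,1⟩) (.leaf ⟨35,[36,32,37,35,32,32,37,35,35,36,34,36,37,33,36],29,3⟩)) (.leaf ⟨33,[33,35,36,33,35,35,36,32,32,36,32,36,34,36],17,12⟩)))) (.node (.node (.node (.node (.leaf ⟨33,[35,35,32,34,34],7,0⟩) (.leaf ⟨33,[36,37,36,32,36,35,36,37,36,34,36],24,4⟩)) (.node (.leaf ⟨36,[33,33,36,34,32,34,36,32,32,36,35,33,35],15,0⟩) (.leaf ⟨35,[35,37,34,37,35,37,35,35,37],22,1⟩)))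 (.node (.node (.leaf ⟨37,[33,37,33,33,37,32],19,2⟩) (.leaf ⟨35,[33,35,36,35,32,36,33,34,36,33],13,8⟩)) (.leaf ⟨35,[36,32,36,33,36,34,32,36,33],11,2⟩))) (.node (.node (.node (.leaf ⟨36,[34,34,36,35,35,36,35,36,34],12,4⟩) (.leaf ⟨37,[34,32,37,33,35,37,34,32,37,33,35],26,9⟩)) (.leaf ⟨33,[35,36,35,32,36,33,34,36,33,35],13,9⟩)) (.node (.node (.leaf ⟨35,[35,37,35,35,37,34,37,35,37],22,8⟩) (.leaf ⟨33,[34,36,35,32,37,33,34,36,35,32,37],23,7⟩)) (.leaf ⟨35,[33,37,32,34,36,32,37,36,37,33,36],25,10⟩))))) (.node (.node (.node (.node (.node (.leaf ⟨32,[32,32,32],4,2⟩) (.leaf ⟨33,[36,33,33,36,32,32,36,32,32,36,33],14,11⟩)) (.node (.leaf ⟨36,[34,36,34,36,34,36,34],10,6⟩) (.leaf ⟨35,[32,37,33,34,36,35,32,37,33,34,36],23,10⟩))) (.node (.node (.leaf ⟨33,[35,33,35,36,35,32,36,33,34,36],13,7⟩) (.leaf ⟨32,[37,35,37,36,33,33,36,37,34,37,33,36],28,5⟩))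 (.leaf ⟨33,[33,36,33,33,36,32,32,36,32,32,36],14,10⟩))) (.node (.node (.node (.leaf ⟨33,[35,32,34,32,34,33,35],8,2⟩) (.leaf ⟨32,[34,37,35,33,37,35,33,37,32,34,37],27,4⟩)) (.leaf ⟨36,[35,35,36,35,36,34,36,34,34],12,7⟩)) (.node (.node (.leaf ⟨37,[36,37,36,37,36,37,36],21,4⟩) (.leaf ⟨36,[37,36,37,36,37,36,37],21,1⟩)) (.leaf ⟨32,[37,36,37,33,36,35,33,37,32,34,36],25,4⟩)))) (.node (.node (.node (.node (.leaf ⟨32,[34,34,33,35,35],7,3⟩) (.leaf ⟨37,[33,35,37,34,32,37,33,35,37,34,32],26,6⟩)) (.leaf ⟨36,[35,36,37,36,34,36,33,36,37,36,32],24,9⟩)) (.node (.node (.leaf ⟨32,[37,33,37,33,33,37],19,1⟩) (.leaf ⟨35,[35,36,34,36,37,33,36,35,36,32,37,35,32,32,37],29,11⟩)) (.leaf ⟨36,[33,33,35,36,33,35,35,36,32,32,36,32,36,34],17,11⟩))) (.node (.node (.node (.leaf ⟨33,[35,36,32,36,33,36,34,32,36],11,1⟩) (.leaf ⟨33,[37,32,34,37,32,34,37,35,33,37,35],27,11⟩))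 (.leaf ⟨37,[36,34,36,33,36,37,36,32,36,35,36],24,0⟩)) (.node (.node (.leaf ⟨36,[35,32,37,33,34,36,35,32,37,33,34],23,9⟩) (.leaf ⟨33,[36,33,36,32,36,35,33,36,32,36,32,34,36],16,1⟩)) (.leaf ⟨32,[34,36,32,37,36,37,33,36,35,33,37],25,1⟩))))))) (.node (.node (.node (.node (.node (.node (.node (.leaf ⟨33,[32],0,1⟩) (.leaf ⟨33,[36,32,36,32,34,36,33,36,33,36,32,36,35],16,8⟩)) (.node (.leaf ⟨36,[34,36,34,36,34,36,34],10,0⟩) (.leaf ⟨37,[36,37,36,37,36,37,36],21,0⟩))) (.node (.node (.leaf ⟨33,[34,36,33,35,33,35,36,35,32,36],13,4⟩) (.leaf ⟨33,[36,37,34,37,33,36,32,37,35,37,36,33],28,11⟩)) (.leaf ⟨32,[36,33,36,34,32,36,33,35,36],11,4⟩))) (.node (.node (.node (.leaf ⟨34,[33,35,35,32,34],7,5⟩) (.leaf ⟨35,[33,37,35,33,37,32,34,37,32,34,37],27,7⟩)) (.leaf ⟨36,[37,36,32,36,35,36,37,36,34,36,33],24,5⟩)) (.node (.node (.leaf ⟨37,[34,37,34,37,34,37,34],20,4⟩)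 (.leaf ⟨35,[36,34,36,37,33,36,35,36,32,37,35,32,32,37,35],29,12⟩)) (.leaf ⟨32,[34,36,32,32,36,35,33,35,36,33,33,36,34],15,5⟩)))) (.node (.node (.node (.node (.leaf ⟨33,[35,32,32,34,33],6,0⟩) (.leaf ⟨35,[36,33,33,36,34,32,34,36,32,32,36,35,33],15,13⟩)) (.node (.leaf ⟨35,[33,35,36,33,33,36,34,32,34,36,32,32,36],15,11⟩) (.leaf ⟨36,[37,36,37,36,37,36,37],21,7⟩))) (.node (.node (.leaf ⟨37,[33,33,37,32,37,33],19,4⟩) (.leaf ⟨37,[33,35,37,34,32,37,33,35,37,34,32],26,0⟩)) (.leaf ⟨35,[36,34,36,34,34,36,35,35,36],12,1⟩))) (.node (.node (.node (.leaf ⟨32,[36,33,35,36,32,36,33,36,34],11,9⟩) (.leaf ⟨37,[34,37,34,37,34,37,34],20,6⟩)) (.leaf ⟨32,[36,35,33,36,32,36,32,34,36,33,36,33,36],16,5⟩)) (.node (.node (.leaf ⟨34,[37,35,37,35,35,37,35,35,37],22,4⟩) (.leaf ⟨32,[37,33,34,36,35,32,37,33,34,36,35],23,5⟩)) (.leaf ⟨37,[36,37,33,36,35,33,37,32,34,36,32],25,5⟩)))))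 (.node (.node (.node (.node (.node (.leaf ⟨36,[36],9,1⟩) (.leaf ⟨36,[33,35,35,36,32,32,36,32,36,34,36,33,33,35],17,0⟩)) (.node (.leaf ⟨36,[34,36,34,34,36,35,35,36,35],12,2⟩) (.leaf ⟨32,[36,35,36,37,36,34,36,33,36,37,36],24,8⟩))) (.node (.node (.leaf ⟨35,[36,35,32,36,33,34,36,33,35,33],13,10⟩) (.leaf ⟨37,[34,37,33,36,32,37,35,37,36,33,33,36],28,0⟩)) (.leaf ⟨32,[32,36,32,32,36,33,33,36,33,33,36],14,4⟩))) (.node (.node (.node (.leaf ⟨33,[35,33,35,32,34,32,34],8,0⟩) (.leaf ⟨37,[35,33,37,35,33,37,32,34,37,32,34],27,6⟩)) (.leaf ⟨34,[36,35,35,36,35,36,34,36,34],12,6⟩)) (.node (.node (.leaf ⟨36,[37,36,37,36,37,36,37],21,5⟩) (.leaf ⟨37,[33,36,35,36,32,37,35,32,32,37,35,35,36,34,36],29,0⟩)) (.leaf ⟨33,[36,35,33,37,32,34,36,32,37,36,37],25,8⟩)))) (.node (.node (.node (.node (.leaf ⟨32,[34,33,33,35,32],6,3⟩) (.leaf ⟨32,[37,33,35,37,34,32,37,33,35,37,34],26,5⟩))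 (.node (.leaf ⟨36,[33,36,34,32,36,33,35,36,32],11,5⟩) (.leaf ⟨34,[32,34,33,35,33,35,32],8,5⟩))) (.node (.node (.leaf ⟨33,[33,37,32,37,33,37],19,5⟩) (.leaf ⟨34,[36,33,36,37,36,32,36,35,36,37,36],24,2⟩)) (.leaf ⟨36,[33,33,36,33,33,36,32,32,36,32,32],14,9⟩))) (.node (.node (.node (.leaf ⟨33,[36,34,32,36,33,35,36,32,36],11,6⟩) (.leaf ⟨35,[37,34,32,37,33,35,37,34,32,37,33],26,8⟩)) (.leaf ⟨36,[32,36,35,33,36,32,36,32,34,36,33,36,33],16,4⟩)) (.node (.node (.leaf ⟨34,[34,34,34],5,3⟩) (.leaf ⟨34,[32,37,33,35,37,34,32,37,33,35,37],26,4⟩)) (.leaf ⟨34,[36,32,37,36,37,33,36,35,33,37,32],25,2⟩)))))) (.node (.node (.node (.node (.node (.node (.leaf ⟨35,[34],2,1⟩) (.leaf ⟨36,[37,36,34,36,33,36,37,36,32,36,35],24,11⟩)) (.node (.leaf ⟨34,[34,36,35,35,36,35,36,34,36],12,5⟩) (.leaf ⟨34,[37,34,37,34,37,34,37],20,1⟩))) (.node (.node (.leaf ⟨34,[36,33,35,33,35,36,35,32,36,33],13,5⟩)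 (.leaf ⟨34,[37,33,36,32,37,35,37,36,33,33,36,37],28,1⟩)) (.leaf ⟨37,[36,32,36,35,36,37,36,34,36,33,36],24,6⟩))) (.node (.node (.node (.leaf ⟨34,[34,33,35,35,32],7,4⟩) (.leaf ⟨37,[35,33,37,32,34,37,32,34,37,35,33],27,9⟩)) (.leaf ⟨36,[33,35,33,35,36,35,32,36,33,34],13,6⟩)) (.node (.node (.leaf ⟨35,[33,35,32,34,32,34,33],8,1⟩) (.leaf ⟨36,[37,33,36,35,36,32,37,35,32,32,37,35,35,36,34],29,15⟩)) (.leaf ⟨35,[32,34,32,34,33,35,33],8,3⟩)))) (.node (.node (.node (.node (.leaf ⟨32,[32,32,32],4,1⟩) (.leaf ⟨35,[36,33,35,35,36,32,32,36,32,36,34,36,33,33],17,14⟩)) (.node (.leaf ⟨36,[34,32,34,36,32,32,36,35,33,35,36,33,33],15,3⟩) (.leaf ⟨35,[37,34,37,35,37,35,35,37,35],22,2⟩))) (.node (.node (.leaf ⟨37,[32,37,33,37,33,33],19,0⟩) (.leaf ⟨36,[33,36,32,36,35,33,36,32,36,32,34,36,33],16,2⟩)) (.leaf ⟨36,[32,36,32,34,36,33,36,33,36,32,36,35,33],16,9⟩)))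 (.node (.node (.node (.leaf ⟨35,[35,36,35,36,34,36,34,34,36],12,8⟩) (.leaf ⟨37,[34,37,34,37,34,37,34],20,2⟩)) (.leaf ⟨36,[32,32,36,33,33,36,33,33,36,32,32],14,6⟩)) (.node (.node (.leaf ⟨37,[35,35,37,35,35,37,34,37,35],22,7⟩) (.leaf ⟨37,[35,37,36,33,33,36,37,34,37,33,36,32],28,6⟩)) (.leaf ⟨37,[32,34,36,32,37,36,37,33,36,35,33],25,0⟩))))) (.node (.node (.node (.node (.node (.leaf ⟨34,[34,34,34],5,2⟩) (.leaf ⟨37,[33,34,36,35,32,37,33,34,36,35,32],23,0⟩)) (.node (.leaf ⟨35,[32,36,33,34,36,33,35,33,35,36],13,1⟩) (.leaf ⟨37,[36,37,36,37,36,37,36],21,6⟩))) (.node (.node (.leaf ⟨34,[33,35,33,35,32,34,32],8,7⟩) (.leaf ⟨35,[33,36,32,36,32,34,36,33,36,33,36,32,36],16,7⟩)) (.leaf ⟨36,[35,33,35,36,33,33,36,34,32,34,36,32,32],15,10⟩))) (.node (.node (.node (.leaf ⟨34,[36,34,36,34,36,34,36],10,5⟩) (.leaf ⟨37,[32,34,37,32,34,37,35,33,37,35,33],27,0⟩))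 (.leaf ⟨36,[32,32,36,32,32,36,33,33,36,33,33],14,3⟩)) (.node (.node (.leaf ⟨36,[34,36,34,36,34,36,34],10,4⟩) (.leaf ⟨37,[34,37,34,37,34,37,34],20,0⟩)) (.leaf ⟨36,[37,33,36,35,33,37,32,34,36,32,37],25,6⟩)))) (.node (.node (.node (.node (.leaf ⟨35,[35,32,34,34,33],7,1⟩) (.leaf ⟨34,[37,34,37,34,37,34,37],20,3⟩)) (.leaf ⟨36,[33,36,37,36,32,36,35,36,37,36,34],24,3⟩)) (.node (.node (.leaf ⟨33,[37,32,37,33,37,33],19,6⟩) (.leaf ⟨32,[37,35,32,32,37,35,35,36,34,36,37,33,36,35,36],29,5⟩)) (.leaf ⟨36,[34,36,33,33,35,36,33,35,35,36,32,32,36,32],17,9⟩))) (.node (.node (.node (.leaf ⟨36,[34,32,36,33,35,36,32,36,33],11,7⟩) (.leaf ⟨37,[36,33,33,36,37,34,37,33,36,32,37,35],28,8⟩)) (.leaf ⟨36,[32,32,36,35,33,35,36,33,33,36,34,32,34],15,7⟩)) (.node (.node (.leaf ⟨37,[33,34,36,35,32,37,33,34,36,35,32],23,6⟩) (.leaf ⟨32,[32,36,33,33,36,33,33,36,32,32,36],14,7⟩))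 (.leaf ⟨37,[35,37,35,35,37,35,35,37,34],22,5⟩))))))))
noncomputable def tc0 : TCL := ⟨[32,33,34,35,36,37], [32,33,34,35,36], 1755, 36, 0xffff, 16, 0xff,
  fun a x => look 0xfffffffff (nth tc0T 0 a) x, fun x => look 0xfffffffff tc0d x, tc0r⟩
noncomputable def tc1T : List ℕ := [0,0,0,0,0,0,0,0,0,0,0,0,0,0,0,0,0,0,0,0,0,0,0,0,0,0,0,0,0,0,0,0,tc1t32,tc1t33,tc1t34,tc1t35,tc1t36]
noncomputable def tc1r : Tr Rule := (.node (.node (.node (.node (.node (.node (.node (.leaf ⟨36,[36],9,1⟩) (.leaf ⟨34,[36,34,36,34,36,34,36],10,1⟩)) (.node (.leaf ⟨33,[35,36,32,36,33,36,34,32,36],11,1⟩) (.leaf ⟨35,[33,36,32,36,32,34,36,33,36,33,36,32,36],16,7⟩))) (.node (.node (.leaf ⟨34,[33,35,35,32,34],7,5⟩) (.leaf ⟨36,[35,33,35,36,33,33,36,34,32,34,36,32,32],15,10⟩)) (.node (.leaf ⟨35,[33,35,36,35,32,36,33,34,36,33],13,8⟩) (.leaf ⟨33,[35,36,33,35,35,36,32,32,36,32,36,34,36,33],17,13⟩))))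 (.node (.node (.node (.leaf ⟨33,[35,32,32,34,33],6,0⟩) (.leaf ⟨36,[32,32,36,33,33,36,33,33,36,32,32],14,6⟩)) (.node (.leaf ⟨34,[36,34,34,36,35,35,36,35,36],12,3⟩) (.leaf ⟨36,[34,36,33,33,35,36,33,35,35,36,32,32,36,32],17,9⟩))) (.node (.node (.leaf ⟨35,[32,32,34,33,33],6,1⟩) (.leaf ⟨33,[33,36,34,32,34,36,32,32,36,35,33,35,36],15,1⟩)) (.leaf ⟨35,[32,34,32,34,33,35,33],8,3⟩)))) (.node (.node (.node (.node (.leaf ⟨34,[35],2,0⟩) (.leaf ⟨32,[32,36,33,33,36,33,33,36,32,32,36],14,7⟩)) (.node (.leaf ⟨34,[36,35,35,36,35,36,34,36,34],12,6⟩) (.leaf ⟨36,[33,36,33,36,32,36,35,33,36,32,36,32,34],16,0⟩))) (.node (.node (.leaf ⟨33,[35,33,35,32,34,32,34],8,0⟩) (.leaf ⟨32,[32,36,35,33,35,36,33,33,36,34,32,34,36],15,8⟩)) (.node (.leaf ⟨36,[34,36,34,36,34,36,34],10,4⟩) (.leaf ⟨36,[32,36,34,36,33,33,35,36,33,35,35,36,32,32],17,7⟩)))) (.node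 (.node (.node (.leaf ⟨32,[34,33,33,35,32],6,3⟩) (.leaf ⟨36,[32,32,36,32,32,36,33,33,36,33,33],14,3⟩)) (.node (.leaf ⟨36,[33,35,33,35,36,35,32,36,33,34],13,6⟩) (.leaf ⟨32,[32,36,32,36,34,36,33,33,35,36,33,35,35,36],17,5⟩))) (.node (.node (.leaf ⟨32,[36,33,36,34,32,36,33,35,36],11,4⟩) (.leaf ⟨32,[36,32,34,36,33,36,33,36,32,36,35,33,36],16,10⟩)) (.leaf ⟨36,[34,36,34,34,36,35,35,36,35],12,2⟩))))) (.node (.node (.node (.node (.node (.leaf ⟨32,[33],0,0⟩) (.leaf ⟨36,[35,36,34,36,34,34,36,35,35],12,0⟩)) (.node (.leaf ⟨32,[34,33,35,33,35,32,34],8,6⟩) (.leaf ⟨32,[36,35,33,36,32,36,32,34,36,33,36,33,36],16,5⟩))) (.node (.node (.leaf ⟨32,[32,34,33,33,35],6,2⟩) (.leaf ⟨35,[33,35,36,33,33,36,34,32,34,36,32,32,36],15,11⟩)) (.node (.leaf ⟨32,[36,33,34,36,33,35,33,35,36,35],13,2⟩) (.leaf ⟨35,[36,33,35,35,36,32,32,36,32,36,34,36,33,33],17,14⟩))))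 (.node (.node (.node (.leaf ⟨32,[32,32,32],4,1⟩) (.leaf ⟨32,[32,36,32,32,36,33,33,36,33,33,36],14,4⟩)) (.node (.leaf ⟨33,[35,33,35,36,35,32,36,33,34,36],13,7⟩) (.leaf ⟨34,[36,33,33,35,36,33,35,35,36,32,32,36,32,36],17,10⟩))) (.node (.node (.leaf ⟨35,[33,35,32,34,32,34,33],8,1⟩) (.leaf ⟨33,[36,32,36,32,34,36,33,36,33,36,32,36,35],16,8⟩)) (.leaf ⟨34,[32,36,33,35,36,32,36,33,36],11,8⟩)))) (.node (.node (.node (.node (.leaf ⟨34,[34,34,34],5,2⟩) (.leaf ⟨33,[36,33,33,36,32,32,36,32,32,36,33],14,11⟩)) (.node (.leaf ⟨35,[36,35,36,34,36,34,34,36,35],12,9⟩) (.leaf ⟨33,[36,33,36,32,36,35,33,36,32,36,32,34,36],16,1⟩))) (.node (.node (.leaf ⟨32,[34,32,34,33,35,33,35],8,4⟩) (.leaf ⟨35,[36,33,33,36,34,32,34,36,32,32,36,35,33],15,13⟩)) (.node (.leaf ⟨34,[36,34,36,34,36,34,36],10,3⟩) (.leaf ⟨36,[33,35,35,36,32,32,36,32,36,34,36,33,33,35],17,0⟩))))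 (.node (.node (.node (.leaf ⟨35,[35,32,34,34,33],7,1⟩) (.leaf ⟨33,[35,36,33,33,36,34,32,34,36,32,32,36,35],15,12⟩)) (.node (.leaf ⟨33,[34,36,33,35,33,35,36,35,32,36],13,4⟩) (.leaf ⟨36,[33,33,35,36,33,35,35,36,32,32,36,32,36,34],17,11⟩))) (.node (.node (.leaf ⟨36,[34,32,36,33,35,36,32,36,33],11,7⟩) (.leaf ⟨33,[36,32,36,35,33,36,32,36,32,34,36,33,36],16,3⟩)) (.leaf ⟨36,[34,36,34,36,34,36,34],10,0⟩)))))) (.node (.node (.node (.node (.node (.node (.leaf ⟨33,[32],0,1⟩) (.leaf ⟨36,[35,35,36,35,36,34,36,34,34],12,7⟩)) (.node (.leaf ⟨34,[33,33,35,32,32],6,4⟩) (.leaf ⟨36,[32,36,35,33,36,32,36,32,34,36,33,36,33],16,4⟩))) (.node (.node (.leaf ⟨35,[32,34,34,33,35],7,2⟩) (.leaf ⟨34,[36,32,32,36,35,33,35,36,33,33,36,34,32],15,6⟩)) (.node (.leaf ⟨35,[32,36,33,34,36,33,35,33,35,36],13,1⟩) (.leaf ⟨35,[36,32,32,36,32,36,34,36,33,33,35,36,33,35],17,3⟩))))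 (.node (.node (.node (.leaf ⟨33,[35,35,32,34,34],7,0⟩) (.leaf ⟨33,[33,36,33,33,36,32,32,36,32,32,36],14,10⟩)) (.node (.leaf ⟨35,[36,34,36,34,34,36,35,35,36],12,1⟩) (.leaf ⟨32,[36,32,36,34,36,33,33,35,36,33,35,35,36,32],17,6⟩))) (.node (.node (.leaf ⟨34,[34,34,34],5,3⟩) (.leaf ⟨34,[36,34,36,34,36,34,36],10,7⟩)) (.leaf ⟨36,[33,36,34,32,36,33,35,36,32],11,5⟩)))) (.node (.node (.node (.node (.leaf ⟨32,[32,32,32],4,2⟩) (.leaf ⟨32,[36,33,33,36,33,33,36,32,32,36,32],14,8⟩)) (.node (.leaf ⟨35,[35,36,35,36,34,36,34,34,36],12,8⟩) (.leaf ⟨36,[33,36,32,36,35,33,36,32,36,32,34,36,33],16,2⟩))) (.node (.node (.leaf ⟨33,[35,32,34,32,34,33,35],8,2⟩) (.leaf ⟨36,[34,32,34,36,32,32,36,35,33,35,36,33,33],15,3⟩)) (.node (.leaf ⟨36,[34,36,34,36,34,36,34],10,6⟩) (.leaf ⟨33,[35,35,36,32,32,36,32,36,34,36,33,33,35,36],17,1⟩)))) (.node (.node (.node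 (.leaf ⟨32,[34,34,33,35,35],7,3⟩) (.leaf ⟨32,[34,36,32,32,36,35,33,35,36,33,33,36,34],15,5⟩)) (.node (.leaf ⟨35,[36,35,32,36,33,34,36,33,35,33],13,10⟩) (.leaf ⟨36,[32,32,36,32,36,34,36,33,33,35,36,33,35,35],17,4⟩))) (.node (.node (.leaf ⟨32,[36,33,35,36,32,36,33,36,34],11,9⟩) (.leaf ⟨36,[32,36,32,34,36,33,36,33,36,32,36,35,33],16,9⟩)) (.leaf ⟨34,[32,34,33,35,33,35,32],8,5⟩))))) (.node (.node (.node (.node (.node (.leaf ⟨35,[34],2,1⟩) (.leaf ⟨36,[33,35,36,32,36,33,36,34,32],11,0⟩)) (.node (.leaf ⟨34,[33,35,33,35,32,34,32],8,7⟩) (.leaf ⟨34,[36,33,36,33,36,32,36,35,33,36,32,36,32],16,13⟩))) (.node (.node (.leaf ⟨34,[34,33,35,35,32],7,4⟩) (.leaf ⟨34,[32,34,36,32,32,36,35,33,35,36,33,33,36],15,4⟩)) (.node (.leaf ⟨36,[35,32,36,33,34,36,33,35,33,35],13,0⟩) (.leaf ⟨35,[35,36,32,32,36,32,36,34,36,33,33,35,36,33],17,2⟩)))) (.node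 (.node (.node (.leaf ⟨32,[32,32,32],4,3⟩) (.leaf ⟨33,[36,32,32,36,32,32,36,33,33,36,33],14,2⟩)) (.node (.leaf ⟨36,[33,34,36,33,35,33,35,36,35,32],13,3⟩) (.leaf ⟨32,[36,34,36,33,33,35,36,33,35,35,36,32,32,36],17,8⟩))) (.node (.node (.leaf ⟨33,[36,34,32,36,33,35,36,32,36],11,6⟩) (.leaf ⟨36,[35,33,36,32,36,32,34,36,33,36,33,36,32],16,6⟩)) (.leaf ⟨35,[36,32,36,33,36,34,32,36,33],11,2⟩)))) (.node (.node (.node (.node (.leaf ⟨33,[33,35,32,32,34],6,5⟩) (.leaf ⟨36,[33,33,36,33,33,36,32,32,36,32,32],14,9⟩)) (.node (.leaf ⟨34,[34,36,35,35,36,35,36,34,36],12,5⟩) (.leaf ⟨36,[32,34,36,33,36,33,36,32,36,35,33,36,32],16,11⟩))) (.node (.node (.leaf ⟨34,[36,34,36,34,36,34,36],10,5⟩) (.leaf ⟨33,[36,34,32,34,36,32,32,36,35,33,35,36,33],15,2⟩)) (.leaf ⟨36,[34,36,34,36,34,36,34],10,2⟩))) (.node (.node (.node (.leaf ⟨34,[34,34,34],5,1⟩) (.leaf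 ⟨36,[32,32,36,35,33,35,36,33,33,36,34,32,34],15,7⟩)) (.node (.leaf ⟨34,[36,33,35,33,35,36,35,32,36,33],13,5⟩) (.leaf ⟨33,[33,35,36,33,35,35,36,32,32,36,32,36,34,36],17,12⟩))) (.node (.node (.leaf ⟨36,[32,36,33,36,34,32,36,33,35],11,3⟩) (.leaf ⟨32,[34,36,33,36,33,36,32,36,35,33,36,32,36],16,12⟩)) (.leaf ⟨36,[34,34,36,35,35,36,35,36,34],12,4⟩)))))))
noncomputable def tc1 : TCL := ⟨[32,33,34,35,36], [32,33,34,35], 640, 32, 0x7fff, 15, 0x7f,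
  fun a x => look 0xffffffff (nth tc1T 0 a) x, fun x => look 0xffffffff tc1d x, tc1r⟩
noncomputable def tc2T : List ℕ := [0,0,0,0,0,0,0,0,0,0,0,0,0,0,0,0,0,0,0,0,0,0,0,0,0,0,0,0,0,0,0,0,tc2t32,tc2t33,tc2t34,tc2t35]
noncomputable def tc2r : Tr Rule := (.node (.node (.node (.node (.node (.leaf ⟨33,[32],0,1⟩) (.leaf ⟨32,[34,32,34,33,35,33,35],8,4⟩)) (.leaf ⟨33,[33,35,32,32,34],6,5⟩)) (.node (.leaf ⟨32,[32,32,32],4,2⟩) (.leaf ⟨34,[33,35,35,32,34],7,5⟩))) (.node (.node (.node (.leaf ⟨35,[34],2,1⟩) (.leaf ⟨33,[35,32,34,32,34,33,35],8,2⟩)) (.leaf ⟨32,[34,34,33,35,35],7,3⟩)) (.node (.leaf ⟨32,[34,33,33,35,32],6,3⟩) (.leaf ⟨33,[35,35,32,34,34],7,0⟩)))) (.node (.node (.node (.node (.leaf ⟨32,[33],0,0⟩) (.leaf ⟨32,[34,33,35,33,35,32,34],8,6⟩)) (.leaf ⟨33,[35,32,32,34,33],6,0⟩)) (.node (.leaf ⟨34,[34,34,34],5,2⟩) (.leaf ⟨35,[32,34,34,33,35],7,2⟩)))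 (.node (.node (.leaf ⟨34,[35],2,0⟩) (.leaf ⟨34,[34,33,35,35,32],7,4⟩)) (.node (.leaf ⟨32,[32,34,33,33,35],6,2⟩) (.leaf ⟨35,[35,32,34,34,33],7,1⟩)))))
noncomputable def tc2 : TCL := ⟨[32,33,34,35], [], 32, 20, 0x3ff, 10, 0x1f,
  fun a x => look 0xfffff (nth tc2T 0 a) x, fun x => look 0xfffff tc2d x, tc2r⟩
noncomputable def tc : List TCL := [tc0, tc1, tc2]
noncomputable def inW : List (List ℕ) := [[37,35,36,37,35,36,34,33,36,32,36,34,32,34,32],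
  [32,36,32,32,37,32,34,36,32,34,36,33,36,34,32,34,32],
  [33,34,32,36,37,36,32,36,34,32,36,34,33,34],
  [32,37,35,32,37,36,32,35,36,32,36,32,36]]
noncomputable def tcS : List ℕ := [32,33,34,35,36,37]

end Cfsg.Agent.CG.TF42
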